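import Groth.Agent.Lib.GlobalFP7.Prufer
import Groth.Agent.Lib.PushFin12.Basic
import Groth.Agent.Lib.CohFound.SerreVan
import Mathlib.AlgebraicGeometry.Morphisms.FinitePresentation
import Mathlib.AlgebraicGeometry.Morphisms.Flat
import Mathlib.RingTheory.Flat.TorsionFree

/-!
# Kernels of epimorphisms from sums of line bundles over a Prüfer domain
-/

set_option autoImplicit false
set_option linter.style.haveILetI false
set_option backward.isDefEq.respectTransparency.types false

universe u

open CategoryTheory CategoryTheory.Limits AlgebraicGeometry Opposite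

namespace Groth.Agent.ValSerreH7

open Groth.Agent

variable {R : Type u} [CommRing R] {X P : Scheme.{u}}

/-- The constants in the sections. -/
noncomputable def sMap (q : X ⟶ Spec (CommRingCat.of R)) (W : X.Opens) : R →+* Γ(X, W) :=
  ((Scheme.ΓSpecIso (CommRingCat.of R)).inv ≫ q.appLE ⊤ W (fun _ _ => trivial)).hom

theorem flat_sMap (q : X ⟶ Spec (CommRingCat.of R)) [Flat q] {W : X.Opens} (hW : IsAffineOpen W) :
    (sMap q W).Flat := by
  have h := HasRingHomProperty.appLE @Flat q ‹Flat q› ⟨⊤, isAffineOpen_top _⟩ ⟨W, hW⟩ (fun _ _ => trivial)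
  rw [sMap, CommRingCat.hom_comp]
  exact RingHom.Flat.comp
    (RingHom.Flat.of_bijective (ConcreteCategory.bijective_of_isIso (Scheme.ΓSpecIso (CommRingCat.of R)).inv)) h

theorem finitePresentation_sMap (q : X ⟶ Spec (CommRingCat.of R)) [LocallyOfFinitePresentation q]
    {W : X.Opens} (hW : IsAffineOpen W) : (sMap q W).FinitePresentation := by
  have h := HasRingHomProperty.appLE @LocallyOfFinitePresentation q ‹_› ⟨⊤, isAffineOpen_top _⟩ ⟨W, hW⟩
    (fun _ _ => trivial)
  rw [sMap, CommRingCat.hom_comp]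
  exact RingHom.FinitePresentation.comp h
    (RingHom.FinitePresentation.of_bijective (ConcreteCategory.bijective_of_isIso (Scheme.ΓSpecIso (CommRingCat.of R)).inv))

theorem app_sMap (ι : X ⟶ P) (p : P ⟶ Spec (CommRingCat.of R)) (U : P.Opens) (c : R) :
    ι.app U (sMap p U c) = sMap (ι ≫ p) (ι ⁻¹ᵁ U) c := by
  simp only [sMap, CommRingCat.hom_comp, RingHom.comp_apply]
  rw [Scheme.Hom.app_eq_appLE, ← CommRingCat.comp_apply, Scheme.Hom.appLE_comp_appLE]

/-- Sections of `M` on preimages of affine opens are finitely presented. -/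
def SecFP (ι : X ⟶ P) (M : X.Modules) : Prop :=
  ∀ U : P.Opens, IsAffineOpen U →
    letI : Module Γ(P, U) Γ(M, ι ⁻¹ᵁ U) := Module.compHom _ (ι.app U).hom
    Module.FinitePresentation Γ(P, U) Γ(M, ι ⁻¹ᵁ U)

theorem isFP_push_of_secFP (ι : X ⟶ P) [IsAffineHom ι] {M : X.Modules} (hM : Coh.IsQCoh M)
    (h : SecFP ι M) : CohB1.IsFP ((Scheme.Modules.pushforward ι).obj M) :=
  M1.isFP_of_finitePresentation_sections (M1.isQCoh_push ι hM) fun U hU => h U hU

theorem isFP_of_secFP_id {M : P.Modules} (hM : Coh.IsQCoh M) (h : SecFP (𝟙 P) M) : CohB1.IsFP M :=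
  M1.isFP_of_finitePresentation_sections hM fun U hU => h U hU

/-- Sums of line bundles on a flat `R`-scheme have no torsion. -/
theorem sigma_torsionFree [IsDomain R] (q : X ⟶ Spec (CommRingCat.of R)) [Flat q] {L : X.Modules}
    (hL : PicF.IsInvertible L) (k : ℕ) {W : X.Opens} (hW : IsAffineOpen W) {c : R} (hc : c ≠ 0)
    (x : Γ(∐ fun _ : Fin k => L, W)) (hx : sMap q W c • x = 0) : x = 0 := by
  classical
  have hLq : Coh.IsQCoh L := Twist.isQCoh_of_isInvertible hL
  haveI hflat : Module.Flat Γ(X, W) Γ(L, W) := PushFin12.flat_sections_of_flat_stalks hLq hW fun y =>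
    CohFound.flat_stalk_invertible hL y
  have key : ∀ y : Γ(L, W), sMap q W c • y = 0 → y = 0 := by
    intro y hy
    letI := (sMap q W).toAlgebra
    haveI : Module.Flat R Γ(X, W) := flat_sMap q hW
    letI : Module R Γ(L, W) := Module.compHom _ (sMap q W)
    haveI : IsScalarTower R Γ(X, W) Γ(L, W) := IsScalarTower.of_algebraMap_smul fun _ _ => rfl
    haveI : Module.Flat R Γ(L, W) := Module.Flat.trans R Γ(X, W) Γ(L, W)
    have : c • y = 0 := hy
    exact (smul_eq_zero_iff_right hc).1 this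
  haveI : HasFiniteBiproducts X.Modules := Abelian.hasFiniteBiproducts
  let e : (⨁ fun _ : Fin k => L) ≅ ∐ fun _ : Fin k => L := biproduct.isoCoproduct _
  let z : Γ(⨁ fun _ : Fin k => L, W) := e.inv.app W x
  have hz : sMap q W c • z = 0 := by
    rw [← Scheme.Modules.Hom.app_smul, hx, map_zero]
  have hsum : ∀ s : Finset (Fin k), (∑ j ∈ s, biproduct.π (fun _ : Fin k => L) j ≫
      biproduct.ι (fun _ : Fin k => L) j).app W z = 0 := by
    intro s
    induction s using Finset.induction_on with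
    | empty => simp
    | insert j s hj ih =>
      rw [Finset.sum_insert hj, Scheme.Modules.Hom.add_app]
      show (biproduct.π (fun _ : Fin k => L) j ≫ biproduct.ι (fun _ : Fin k => L) j).app W z + _ = 0
      rw [ih, add_zero, Scheme.Modules.Hom.comp_app]
      show (biproduct.ι (fun _ : Fin k => L) j).app W ((biproduct.π (fun _ : Fin k => L) j).app W z) = 0
      rw [key ((biproduct.π (fun _ : Fin k => L) j).app W z) (by rw [← Scheme.Modules.Hom.app_smul, hz, map_zero]),
        map_zero]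
  have hz0 : z = 0 := by
    have := hsum Finset.univ
    rwa [biproduct.total] at this
  have h2 := congrArg (e.hom.app W) hz0
  rw [map_zero] at h2
  rw [← h2]
  show x = (e.inv ≫ e.hom).app W x
  rw [e.inv_hom_id]
  rfl

/-- A quasi-coherent module with finite, torsion-free sections has finitely presented sections. -/
theorem secFP_of_torsionFree [IsDomain R] (hR : ∀ (p : Ideal R) [p.IsPrime], ValuationRing (Localization.AtPrime p))
    (ι : X ⟶ P) (p : P ⟶ Spec (CommRingCat.of R)) [LocallyOfFinitePresentation p] {M : X.Modules}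
    (hfg : ∀ U : P.Opens, IsAffineOpen U →
      letI : Module Γ(P, U) Γ(M, ι ⁻¹ᵁ U) := Module.compHom _ (ι.app U).hom
      Module.Finite Γ(P, U) Γ(M, ι ⁻¹ᵁ U))
    (htf : ∀ U : P.Opens, IsAffineOpen U → ∀ c : R, c ≠ 0 → ∀ x : Γ(M, ι ⁻¹ᵁ U),
      sMap (ι ≫ p) (ι ⁻¹ᵁ U) c • x = 0 → x = 0) : SecFP ι M := by
  intro U hU
  letI : Module Γ(P, U) Γ(M, ι ⁻¹ᵁ U) := Module.compHom _ (ι.app U).hom
  haveI := hfg U hU
  letI := (sMap p U).toAlgebra
  haveI : Algebra.FinitePresentation R Γ(P, U) := finitePresentation_sMap p hU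
  letI : Module R Γ(M, ι ⁻¹ᵁ U) := Module.compHom _ (sMap p U)
  haveI : IsScalarTower R Γ(P, U) Γ(M, ι ⁻¹ᵁ U) := IsScalarTower.of_algebraMap_smul fun _ _ => rfl
  haveI : Module.IsTorsionFree R Γ(M, ι ⁻¹ᵁ U) := Module.IsTorsionFree.of_smul_eq_zero fun c x h => by
    by_cases hc : c = 0
    · exact Or.inl hc
    · refine Or.inr (htf U hU c hc x ?_)
      rw [← app_sMap]
      exact h
  exact GlobalFP7.finitePresentation_of_torsionFree_prufer R hR

/-- A finitely presented module on a flat closed subscheme has finitely presented direct image. -/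
theorem secFP_of_isFP [IsDomain R] (hR : ∀ (p : Ideal R) [p.IsPrime], ValuationRing (Localization.AtPrime p))
    (ι : X ⟶ P) [IsClosedImmersion ι] (p : P ⟶ Spec (CommRingCat.of R)) [LocallyOfFinitePresentation p]
    [Flat (ι ≫ p)] {F : X.Modules} (hF : CohB1.IsFP F) : SecFP ι F := by
  intro U hU
  letI := (ι.app U).hom.toAlgebra
  letI : Module Γ(P, U) Γ(F, ι ⁻¹ᵁ U) := Module.compHom _ (ι.app U).hom
  haveI : IsScalarTower Γ(P, U) Γ(X, ι ⁻¹ᵁ U) Γ(F, ι ⁻¹ᵁ U) :=
    IsScalarTower.of_algebraMap_smul fun _ _ => rfl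
  haveI : Module.Finite Γ(P, U) Γ(X, ι ⁻¹ᵁ U) := IsFinite.finite_app ι U hU
  haveI : Module.FinitePresentation Γ(P, U) Γ(X, ι ⁻¹ᵁ U) := by
    letI := (sMap p U).toAlgebra
    haveI : Algebra.FinitePresentation R Γ(P, U) := finitePresentation_sMap p hU
    letI := (sMap (ι ≫ p) (ι ⁻¹ᵁ U)).toAlgebra
    haveI : IsScalarTower R Γ(P, U) Γ(X, ι ⁻¹ᵁ U) :=
      IsScalarTower.of_algebraMap_eq fun c => (app_sMap ι p U c).symm
    haveI : Module.Flat R Γ(X, ι ⁻¹ᵁ U) := flat_sMap (ι ≫ p) (hU.preimage ι)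
    exact GlobalFP7.finitePresentation_of_torsionFree_prufer R hR
  haveI := M1.finitePresentation_sections hF (hU.preimage ι)
  exact Module.FinitePresentation.trans Γ(P, U) Γ(F, ι ⁻¹ᵁ U) Γ(X, ι ⁻¹ᵁ U)

/-- The kernel of an epimorphism from a sum of line bundles onto a finitely presented module. -/
theorem secFP_kernel [IsDomain R] (hR : ∀ (p : Ideal R) [p.IsPrime], ValuationRing (Localization.AtPrime p))
    (ι : X ⟶ P) [IsAffineHom ι] (p : P ⟶ Spec (CommRingCat.of R)) [LocallyOfFinitePresentation p]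
    [Flat (ι ≫ p)] {L : X.Modules} (hL : PicF.IsInvertible L) {k : ℕ}
    (hEf : ∀ U : P.Opens, IsAffineOpen U →
      letI : Module Γ(P, U) Γ(∐ fun _ : Fin k => L, ι ⁻¹ᵁ U) := Module.compHom _ (ι.app U).hom
      Module.Finite Γ(P, U) Γ(∐ fun _ : Fin k => L, ι ⁻¹ᵁ U))
    (hEq : Coh.IsQCoh (∐ fun _ : Fin k => L)) {F : X.Modules} (hF : Coh.IsQCoh F) (hFP : SecFP ι F)
    (π : (∐ fun _ : Fin k => L) ⟶ F) (hπ : Epi π) : SecFP ι (kernel π) := by
  haveI := hπ
  refine secFP_of_torsionFree hR ι p (fun U hU => ?_) fun U hU c hc x hx => ?_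
  · let W := ι ⁻¹ᵁ U
    letI : Module Γ(P, U) Γ(kernel π, W) := Module.compHom _ (ι.app U).hom
    letI : Module Γ(P, U) Γ(∐ fun _ : Fin k => L, W) := Module.compHom _ (ι.app U).hom
    letI : Module Γ(P, U) Γ(F, W) := Module.compHom _ (ι.app U).hom
    haveI := hEf U hU
    haveI : Module.FinitePresentation Γ(P, U) Γ(F, W) := hFP U hU
    let g : Γ(∐ fun _ : Fin k => L, W) →ₗ[Γ(P, U)] Γ(F, W) :=
      { toFun := π.app W, map_add' := map_add (π.app W).hom, map_smul' := fun r s => π.app_smul _ s }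
    let f : Γ(kernel π, W) →ₗ[Γ(P, U)] Γ(∐ fun _ : Fin k => L, W) :=
      { toFun := (kernel.ι π).app W, map_add' := map_add ((kernel.ι π).app W).hom,
        map_smul' := fun r s => (kernel.ι π).app_smul _ s }
    have hg : Function.Surjective g := M1.app_surjective_affine_of_isQCoh hEq hF π (hU.preimage ι)
    have hrange : LinearMap.range f = LinearMap.ker g := by
      refine le_antisymm ?_ fun y hy => ?_
      · rintro _ ⟨s, rfl⟩
        show π.app W ((kernel.ι π).app W s) = 0
        rw [← M1.comp_app_apply, kernel.condition]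
        rfl
      · let S : ShortComplex X.Modules := ShortComplex.mk (kernel.ι π) π (kernel.condition π)
        haveI : Mono S.f := inferInstanceAs (Mono (kernel.ι π))
        exact M1.sections_exact (S := S) (ShortComplex.exact_kernel π) W y hy
    haveI : Module.Finite Γ(P, U) (LinearMap.ker g) :=
      Module.Finite.iff_fg.2 (Module.FinitePresentation.fg_ker g hg)
    exact Module.Finite.equiv ((LinearEquiv.ofInjective f (M1.app_injective (kernel.ι π) W)).trans
      (LinearEquiv.ofEq _ _ hrange)).symm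
  · apply M1.app_injective (kernel.ι π)
    rw [map_zero]
    exact sigma_torsionFree (ι ≫ p) hL k (hU.preimage ι) hc _ (by rw [← Scheme.Modules.Hom.app_smul, hx, map_zero])

end Groth.Agent.ValSerreH7
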