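import Groth.Agent.Lib.ValSerreH7.Kernel
import Groth.Agent.Lib.CohFound.AmpleVan
import Groth.Agent.Lib.GrMod11.TwistEpi

/-!
# Serre vanishing over a Prüfer domain
-/

set_option autoImplicit false
set_option linter.style.haveILetI false
set_option backward.isDefEq.respectTransparency.types false

universe u

open CategoryTheory CategoryTheory.Limits AlgebraicGeometry Opposite MvPolynomial

namespace Groth.Agent.ValSerreH7

open Groth.Agent Groth.Agent.CohFound

theorem isCoh_sigma' {X : Scheme.{u}} {Q : X.Modules} (hQ : Coh.IsCoh Q) (r : ℕ) :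
    Coh.IsCoh (∐ fun _ : Fin r => Q) := by
  haveI : HasFiniteBiproducts X.Modules := Abelian.hasFiniteBiproducts
  have h := M1.isFP_of_isFinLocFree (M2.isFinLocFree_of_ofRank (M2.isFinLocFreeOfRank_freeMod X r))
  let e : CohB1.tensorMod (FlatMod.freeMod X r) Q ≅ (∐ fun _ : Fin r => Q) := M2.freeModTensorIso X r Q
  exact ⟨M1.isQCoh_of_isIso e (M2.isQCoh_tensor (M1.isFP_isQCoh h) hQ.1),
    M1.isFT_of_isIso e (M2.isFT_tensor (M1.isFP_isQCoh h) hQ.1 (M1.isFP_isFT h) hQ.2)⟩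

theorem isCoh_invertible {X : Scheme.{u}} {L : X.Modules} (hL : PicF.IsInvertible L) : Coh.IsCoh L :=
  CohFound.isCoh_of_isFinLocFree (M2.isFinLocFree_of_isInvertible hL)

/-- Sums of a line bundle have finite sections over preimages of affines along a closed immersion. -/
theorem finite_sigma {X P : Scheme.{u}} (ι : X ⟶ P) [IsClosedImmersion ι] {L : X.Modules}
    (hL : PicF.IsInvertible L) (k : ℕ) (U : P.Opens) (hU : IsAffineOpen U) :
    letI : Module Γ(P, U) Γ(∐ fun _ : Fin k => L, ι ⁻¹ᵁ U) := Module.compHom _ (ι.app U).hom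
    Module.Finite Γ(P, U) Γ(∐ fun _ : Fin k => L, ι ⁻¹ᵁ U) := by
  have hE := isCoh_sigma' (isCoh_invertible hL) k
  exact M1.finite_sections (M1.isQCoh_push ι hE.1) ((PushFin12.isFT_iff ι _ hE.1).1 hE.2) hU

variable {R : Type u} [CommRing R] [IsDomain R]
  (hR : ∀ (p : Ideal R) [p.IsPrime], ValuationRing (Localization.AtPrime p)) (n : ℕ)

local notation "GR" => CohB1.polyGrading n R

include hR

/-- Serre vanishing on projective space. -/
theorem serre_vanishing (p : ℕ) (hp : 0 < p) (F : (Proj GR).Modules) (hF : CohB1.IsFP F) :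
    ∃ m₀ : ℕ, ∀ m : ℕ, m₀ ≤ m →
      Subsingleton (Hc ((abF (Proj GR)).obj (CohB1.tensorMod F (_root_.Twist.twist GR (m : ℤ)))) p ⊤) := by
  suffices h : ∀ d p, 0 < p → n + 1 ≤ p + d → ∀ (F : (Proj GR).Modules), CohB1.IsFP F →
      ∃ m₀ : ℕ, ∀ m : ℕ, m₀ ≤ m →
        Subsingleton (Hc ((abF (Proj GR)).obj (CohB1.tensorMod F (_root_.Twist.twist GR (m : ℤ)))) p ⊤) from
    h (n + 1) p hp (by omega) F hF
  have hcov := Groth.Agent.Twist.iSup_basicOpen_one n R
  intro d
  induction d with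
  | zero => exact fun p _ hle F hF => ⟨0, fun m _ => ProjNum.subsingleton_hc_qcoh n R _
      (M2.isQCoh_tensor (M1.isFP_isQCoh hF) (Groth.Agent.Twist.isQCoh_twist' GR _)) p (by omega)⟩
  | succ d ih =>
    intro p hp hle F hF
    obtain ⟨m₁, hm₁⟩ := GrMod11.exists_epi_twist_of_ft GR (fun i : Fin (n + 1) => (X i : MvPolynomial (Fin (n + 1)) R))
      (fun i => ProjSpace.X_mem' n R i) (ProjSpace.irrelevant_le_span n R) F (M1.isFP_isQCoh hF) (M1.isFP_isFT hF)
    obtain ⟨k, π, hπ⟩ := hm₁ m₁ le_rfl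
    have : Epi π := hπ
    haveI : Epi (C := (CohB1.ProjSpace n R).Modules) π := hπ
    have hL := Groth.Agent.Twist.isInvertible_twist GR hcov (-(m₁ : ℤ))
    haveI : Flat (𝟙 (CohB1.ProjSpace n R) ≫ CohB1.ProjSpace.toSpec n R) := by
      rw [Category.id_comp]; infer_instance
    have hE := isCoh_sigma' (isCoh_invertible hL) k
    have hKq : Coh.IsQCoh (kernel π) := M1.isQCoh_kernel hE.1 (M1.isFP_isQCoh hF) π
    have hK : CohB1.IsFP (kernel π) := isFP_of_secFP_id hKq
      (secFP_kernel hR (𝟙 (CohB1.ProjSpace n R)) (CohB1.ProjSpace.toSpec n R) hL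
        (finite_sigma (𝟙 (CohB1.ProjSpace n R)) hL k) hE.1 (M1.isFP_isQCoh hF)
        (fun U hU => M1.finitePresentation_sections hF hU) π hπ)
    obtain ⟨m₂, hm₂⟩ := ih (p + 1) (by omega) (by omega) (kernel π) hK
    refine ⟨max m₁ m₂, fun m hm => ?_⟩
    let S : ShortComplex (Proj GR).Modules := ShortComplex.mk (kernel.ι π) π (kernel.condition π)
    have hS : S.ShortExact := { exact := ShortComplex.exact_kernel π }
    have hT := shortExact_abF (shortExact_tensor_invertible hS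
      (Groth.Agent.Twist.isInvertible_twist GR hcov (m : ℤ)))
    have h₃ : Subsingleton (Hc ((abF (Proj GR)).obj (CohB1.tensorMod (kernel π)
        (_root_.Twist.twist GR (m : ℤ)))) (p + 1) ⊤) := hm₂ m (le_of_max_le_right hm)
    have h₂ : Subsingleton (Hc ((abF (Proj GR)).obj (CohB1.tensorMod
        (∐ fun _ : Fin k => _root_.Twist.twist GR (-(m₁ : ℤ))) (_root_.Twist.twist GR (m : ℤ)))) p ⊤) := by
      obtain ⟨e⟩ := Groth.Agent.Twist.nonempty_tensor_iso GR (-(m₁ : ℤ)) (m : ℤ) hcov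
      refine subsingleton_hc_of_iso ((PreservesCoproduct.iso (M2.tensorR (_root_.Twist.twist GR (m : ℤ))) _) ≪≫
        Sigma.mapIso fun _ => e).symm p ⊤ (subsingleton_hc_sigma p ⊤ ?_)
      exact ProjNum.subsingleton_hc_Od (n := n) (R := R) (d := -(m₁ : ℤ) + (m : ℤ)) p hp
        (Or.inl (by have := le_of_max_le_left hm; omega))
    refine subsingleton_of_forall_eq 0 fun x => ?_
    obtain ⟨y, hy⟩ := exact₃ hT p ⊤ x (@Subsingleton.elim _ h₃ _ _)
    rw [← hy]
    exact (congrArg _ (@Subsingleton.elim _ h₂ y 0)).trans (map_zero _)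

variable {X : Scheme.{u}} (ι : X ⟶ CohB1.ProjSpace n R) [IsClosedImmersion ι]
  [Flat (ι ≫ CohB1.ProjSpace.toSpec n R)]

omit hR [IsDomain R] [Flat (ι ≫ CohB1.ProjSpace.toSpec n R)] in
theorem nonempty_twistPow_iso (k : ℕ) :
    Nonempty ((Scheme.Modules.pullback ι).obj (_root_.Twist.twist GR (k : ℤ)) ≅
      CohB1.tensorPow ((Scheme.Modules.pullback ι).obj (_root_.Twist.twist GR 1)) k) := by
  obtain ⟨ek⟩ := Groth.Agent.Twist.nonempty_iso_tensorPow GR (Groth.Agent.Twist.iSup_basicOpen_one n R) k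
  exact ⟨(Scheme.Modules.pullback ι).mapIso ek ≪≫ M2.pullTensorPowIso ι _ k⟩

/-- Vanishing for modules whose direct image to projective space is finitely presented. -/
theorem exists_vanishing {M : X.Modules} (hM : Coh.IsQCoh M) (hMFP : SecFP ι M) :
    ∃ m₀ : ℕ, ∀ k : ℕ, m₀ ≤ k → ∀ p : ℕ, 0 < p →
      Subsingleton (Hc ((abF X).obj (CohB1.tensorMod M
        (CohB1.tensorPow ((Scheme.Modules.pullback ι).obj (_root_.Twist.twist GR 1)) k))) p ⊤) := by
  have hG := isFP_push_of_secFP ι hM hMFP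
  choose m₀ hm₀ using fun p : Fin n =>
    serre_vanishing hR n (p.1 + 1) (Nat.succ_pos _) ((Scheme.Modules.pushforward ι).obj M) hG
  refine ⟨Finset.univ.sup m₀, fun k hk p hp => ?_⟩
  have hcov := Groth.Agent.Twist.iSup_basicOpen_one n R
  let E : (CohB1.ProjSpace n R).Modules := _root_.Twist.twist GR (k : ℤ)
  have hE : Coh.IsQCoh E := Groth.Agent.Twist.isQCoh_twist' _ _
  have hvan : Subsingleton (Hc ((abF (CohB1.ProjSpace n R)).obj
      (CohB1.tensorMod ((Scheme.Modules.pushforward ι).obj M) E)) p ⊤) := by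
    by_cases hpN : p ≤ n
    · obtain ⟨p', rfl⟩ : ∃ p', p = p' + 1 := ⟨p - 1, by omega⟩
      exact hm₀ ⟨p', by omega⟩ k ((Finset.le_sup (Finset.mem_univ _)).trans hk)
    · exact ProjNum.subsingleton_hc_qcoh n R _ (M2.isQCoh_tensor (M1.isFP_isQCoh hG) hE) p (by omega)
  obtain ⟨τ⟩ := nonempty_twistPow_iso n ι k
  obtain ⟨pe⟩ := nonempty_push_tensor_iso ι M hM E hE
  have hQ : Coh.IsQCoh (CohB1.tensorMod M ((Scheme.Modules.pullback ι).obj E)) :=
    M2.isQCoh_tensor hM (Twist.isQCoh_of_isInvertible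
      (Twist.isInvertible_pullback ι (Twist.isInvertible_twist _ hcov _)))
  have : (CohB1.tensorMod M ((Scheme.Modules.pullback ι).obj E)).IsQuasicoherent := hQ
  obtain ⟨ε⟩ := nonempty_hc_push_isAffineHom ι (CohB1.tensorMod M ((Scheme.Modules.pullback ι).obj E)) p ⊤
  exact subsingleton_hc_of_iso (M2.tensorIso (Iso.refl M) τ) p ⊤
    (@Equiv.subsingleton _ _ ε.symm.toEquiv (subsingleton_hc_of_iso pe.symm p ⊤ hvan))

/-- Twisted global sections of an epimorphism of finitely presented modules are eventually surjective. -/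
theorem exists_surjective {F G : X.Modules} (hF : CohB1.IsFP F) (hG : CohB1.IsFP G) (φ : F ⟶ G) [Epi φ] :
    ∃ N : ℕ, ∀ k : ℕ, N ≤ k → Function.Surjective
      ((M2.tensorMap φ (𝟙 (CohB1.tensorPow ((Scheme.Modules.pullback ι).obj (_root_.Twist.twist GR 1)) k))).app ⊤) := by
  have hcov := Groth.Agent.Twist.iSup_basicOpen_one n R
  have hFq := M1.isFP_isQCoh hF
  obtain ⟨m₁, hm₁⟩ := GrMod11.exists_epi_twist_of_ft GR (fun i : Fin (n + 1) => (MvPolynomial.X i : MvPolynomial (Fin (n + 1)) R))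
      (fun i => ProjSpace.X_mem' n R i) (ProjSpace.irrelevant_le_span n R)
      ((Scheme.Modules.pushforward ι).obj F) (M1.isQCoh_push ι hFq) ((PushFin12.isFT_iff ι F hFq).1 (M1.isFP_isFT hF))
  obtain ⟨r, π, hπ⟩ := hm₁ m₁ le_rfl
  haveI : Epi (C := (CohB1.ProjSpace n R).Modules) π := hπ
  let L := (Scheme.Modules.pullback ι).obj (_root_.Twist.twist GR (-(m₁ : ℤ)))
  have hL : PicF.IsInvertible L := Twist.isInvertible_pullback ι (Twist.isInvertible_twist _ hcov _)
  haveI := isIso_counit_closedImm ι F hFq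
  let ψ : (∐ fun _ : Fin r => L) ⟶ F :=
    (PreservesCoproduct.iso (Scheme.Modules.pullback ι) _).inv ≫ (Scheme.Modules.pullback ι).map π ≫
      (Scheme.Modules.pullbackPushforwardAdjunction ι).counit.app F
  haveI : (Scheme.Modules.pullback ι).PreservesEpimorphisms :=
    (Scheme.Modules.pullback ι).preservesEpimorphisms_of_isLeftAdjoint
  have h1 : Epi ((Scheme.Modules.pullback ι).map π) := @Functor.map_epi _ _ _ _ (Scheme.Modules.pullback ι) _ _ _ π hπ
  haveI : Epi ψ := @epi_comp _ _ _ _ _ _ inferInstance _ (@epi_comp _ _ _ _ _ _ h1 _ inferInstance)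
  let χ := ψ ≫ φ
  have hE := isCoh_sigma' (isCoh_invertible hL) r
  have hKq : Coh.IsQCoh (kernel χ) := M1.isQCoh_kernel hE.1 (M1.isFP_isQCoh hG) χ
  obtain ⟨m₀, hm₀⟩ := exists_vanishing hR n ι hKq
    (secFP_kernel hR ι (CohB1.ProjSpace.toSpec n R) hL (finite_sigma ι hL r) hE.1 (M1.isFP_isQCoh hG)
      (secFP_of_isFP hR ι (CohB1.ProjSpace.toSpec n R) hG) χ (inferInstanceAs (Epi (ψ ≫ φ))))
  refine ⟨m₀, fun k hk σ => ?_⟩
  let T := CohB1.tensorPow ((Scheme.Modules.pullback ι).obj (_root_.Twist.twist GR 1)) k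
  have hTinv : PicF.IsInvertible T :=
    Amp.isInvertible_tensorPow (Twist.isInvertible_pullback ι (Twist.isInvertible_twist _ hcov _)) k
  let S : ShortComplex X.Modules := ShortComplex.mk (kernel.ι χ) χ (kernel.condition χ)
  have hS : S.ShortExact := { exact := ShortComplex.exact_kernel χ }
  have hT := shortExact_abF (shortExact_tensor_invertible hS hTinv)
  obtain ⟨w, hw⟩ := exact₃ hT 0 ⊤ ((hc0 ((abF X).obj (CohB1.tensorMod G T)) ⊤).symm σ)
    (@Subsingleton.elim _ (hm₀ k hk 1 one_pos) _ _)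
  let s : Γ(CohB1.tensorMod (∐ fun _ : Fin r => L) T, ⊤) := hc0 _ ⊤ w
  have hs : (M2.tensorMap χ (𝟙 T)).app ⊤ s = σ := by
    refine (hc0_mp ((abF X).map ((M2.tensorR T).map χ)) ⊤ w).symm.trans ?_
    exact (congrArg (hc0 ((abF X).obj (CohB1.tensorMod G T)) ⊤) hw).trans
      ((hc0 ((abF X).obj (CohB1.tensorMod G T)) ⊤).apply_symm_apply σ)
  refine ⟨(M2.tensorMap ψ (𝟙 T)).app ⊤ s, ?_⟩
  refine Eq.trans ?_ hs
  rw [← M1.comp_app_apply, ← M2.tensorMap_comp, Category.comp_id]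

end Groth.Agent.ValSerreH7
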